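import Groth.Agent.Lib.FanoSeq13.Seq

/-! # Codimension through generic points -/

set_option autoImplicit false
set_option linter.style.haveILetI false
universe u

open MvPolynomial

noncomputable section

namespace Groth.Agent.FanoSeq13

variable {k : Type u} [Field k] [Infinite k]

/-- A subset has codimension at least `c` when every component has small transcendence degree. -/
theorem codimGE_of {V : Type u} [AddCommGroup V] [Module k V] {ι : Type} [Fintype ι] (e : V ≃ₗ[k] (ι → k))
    (D : Set V) (c : ℕ)
    (h : ∀ Q : Ideal (MvPolynomial ι k), Q.IsPrime → (∀ f, (∀ v ∈ D, eval (e v) f = 0) → f ∈ Q) →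
      VarDim.tdeg k (MvPolynomial ι k ⧸ Q) + c ≤ Fintype.card ι) :
    LefPen.CodimGE k D c := by
  classical
  let π : MvPolynomial ι k →ₐ[k] LefPen.polyFunAlg k V := MvPolynomial.aeval fun i =>
    ⟨fun v => e v i, Algebra.subset_adjoin ⟨(LinearMap.proj i).comp e.toLinearMap, rfl⟩⟩
  have hπ : ∀ f v, (π f).1 v = eval (e v) f := fun f v => by
    induction f using MvPolynomial.induction_on with
    | C a => simp [π]
    | add p q hp hq =>
      rw [map_add, map_add, ← hp, ← hq]
      rfl
    | mul_X p i hp =>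
      rw [map_mul, map_mul, ← hp, eval_X]
      simp [π]
  have hbij : Function.Bijective π := by
    refine ⟨(injective_iff_map_eq_zero π).2 fun f hf => MvPolynomial.funext fun x => ?_, fun F => ?_⟩
    · rw [map_zero, ← e.apply_symm_apply x, ← hπ, hf]
      rfl
    · let b := Module.Basis.ofEquivFun (e.trans (LinearEquiv.funCongrLeft k k (Fintype.equivFin ι).symm))
      obtain ⟨E, hE⟩ := LefPen13.exists_poly b F.2
      refine ⟨rename (Fintype.equivFin ι).symm E, Subtype.ext (funext fun v => ?_)⟩
      rw [hπ, eval_rename, ← hE v]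
      rfl
  let ee := AlgEquiv.ofBijective π hbij
  have hI : ((LefPen.vanishingFun k D).comap ee.toRingEquiv).height = (LefPen.vanishingFun k D).height :=
    RingEquiv.height_comap _ _
  unfold LefPen.CodimGE
  rw [← hI, Ideal.height_eq_inf_minimalPrimes]
  refine le_iInf₂ fun Q hQ => ?_
  haveI := hQ.1.1
  have h0 := h Q hQ.1.1 fun f hf => hQ.1.2 (show π f ∈ LefPen.vanishingFun k D from fun v hv => (hπ f v).trans (hf v hv))
  have h1 := VarDim.height_add_coheight_nat k (MvPolynomial ι k) ⟨Q, hQ.1.1⟩
  rw [VarDim.coheight_eq_tdeg k _ ⟨Q, hQ.1.1⟩] at h1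
  rw [PrimeSpectrum.height_eq_orderHeight ⟨Q, hQ.1.1⟩]
  have h2 : VarDim.tdeg k (MvPolynomial ι k) = Fintype.card ι := by
    have h3 := VarDim.ringKrullDim_eq_tdeg k (MvPolynomial ι k)
    rw [MvPolynomial.ringKrullDim_of_isNoetherianRing, ringKrullDim_eq_zero_of_field, zero_add,
      Nat.card_eq_fintype_card] at h3
    exact_mod_cast h3.symm
  rw [h2] at h1
  dsimp only at h1
  cases hh : Order.height (⟨Q, hQ.1.1⟩ : PrimeSpectrum (MvPolynomial ι k)) with
  | top => exact le_top
  | coe a =>
    rw [hh] at h1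
    have h4 : a + VarDim.tdeg k (MvPolynomial ι k ⧸ Q) = Fintype.card ι := by exact_mod_cast h1
    exact_mod_cast (show c ≤ a by omega)

theorem coeff_form {R : Type u} [CommRing R] {m d : ℕ} (c : Idx m d → R) (j : Fin d) (e : Expo m (j.1 + 1)) :
    coeff e.1 (form c j) = c ⟨j, e⟩ := by
  classical
  rw [form, coeff_sum]
  simp only [coeff_monomial]
  rw [Finset.sum_eq_single e (fun e' _ hne => if_neg fun h => hne (Subtype.ext h)) (by simp), if_pos rfl]

omit [Infinite k] in
theorem form_self {m d : ℕ} (G : (j : Fin d) → LefPen.Form m k (j.1 + 1)) (j : Fin d) :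
    form (fun v : Idx m d => coeff v.2.1 (G v.1).1) j = (G j).1 :=
  form_coeff j _ ((mem_homogeneousSubmodule _ _).1 (G j).2) _ fun _ => rfl

/-- The coordinates of a sequence of forms. -/
def seqEquiv (m d : ℕ) : ((j : Fin d) → LefPen.Form m k (j.1 + 1)) ≃ₗ[k] (Idx m d → k) where
  toFun G v := coeff v.2.1 (G v.1).1
  map_add' G G' := funext fun v => by simp
  map_smul' a G := funext fun v => by simp
  invFun c j := ⟨form c j, (mem_homogeneousSubmodule _ _).2 (form_homog c j)⟩
  left_inv G := funext fun j => Subtype.ext (form_self G j)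
  right_inv c := funext fun v => coeff_form c v.1 v.2

/-- The components of the locus of sequences with too large an intersection. -/
theorem tdeg_seq {m d : ℕ} (hd : 1 ≤ d) (hdm : d + 2 ≤ m) (Q : Ideal (MvPolynomial (Idx m d) k)) (hQ : Q.IsPrime)
    (hDQ : ∀ f, (∀ G ∈ {G : (j : Fin d) → LefPen.Form m k (j.1 + 1) |
        ((m + 2 - d : ℕ) : WithBot ℕ∞) ≤
          ringKrullDim (MvPolynomial (Fin (m + 1)) k ⧸ Ideal.span (Set.range fun j : Fin d => (G j).1))},
      eval (seqEquiv m d G) f = 0) → f ∈ Q) :
    VarDim.tdeg k (MvPolynomial (Idx m d) k ⧸ Q) + (m + 1) ≤ Fintype.card (Idx m d) := by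
  classical
  haveI := hQ
  let B := MvPolynomial (Idx m d) k ⧸ Q
  have hc : Algebra.adjoin k (Set.range fun v => (Ideal.Quotient.mk Q (X v) : B)) = ⊤ := by
    rw [show (Set.range fun v => (Ideal.Quotient.mk Q (X v) : B)) = (Ideal.Quotient.mkₐ k Q) '' Set.range X from
      (Set.range_comp _ _), ← AlgHom.map_adjoin, MvPolynomial.adjoin_range_X, Algebra.map_top, AlgHom.range_eq_top]
    exact Ideal.Quotient.mkₐ_surjective k Q
  refine tdeg_bound hd hdm _ hc ?_
  by_contra hlt
  let σ : MvPolynomial (Idx m d) k →+* FractionRing B := (algebraMap B (FractionRing B)).comp (Ideal.Quotient.mk Q)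
  haveI : Infinite (FractionRing B) := Infinite.of_injective _ (algebraMap k (FractionRing B)).injective
  have hle : ringKrullDim (MvPolynomial (Fin (m + 1)) (FractionRing B) ⧸
      Ideal.span (Set.range fun j => MvPolynomial.map σ (form (X : Idx m d → _) j))) ≤ ((m + 1 - d : ℕ) : WithBot ℕ∞) := by
    show Order.krullDim _ ≤ _
    rw [Order.krullDim]
    refine iSup_le fun l => ?_
    by_contra hl
    push Not at hl
    refine hlt (le_trans ?_ ((Order.LTSeries.length_le_krullDim l).trans (le_of_eq ?_)))
    · have hl' : m + 1 - d < l.length := by exact_mod_cast hl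
      exact_mod_cast (show m + 2 - d ≤ l.length by omega)
    · have e : (fun j => MvPolynomial.map σ (form (X : Idx m d → _) j)) =
          fun j => form (fun v => algebraMap B (FractionRing B) (Ideal.Quotient.mk Q (X v))) j :=
        funext fun j => form_map σ _ j
      rw [e]
      rfl
  obtain ⟨f, hf, hf'⟩ := lift_dim (fun j : Fin d => j.1 + 1) (fun j => form (X : Idx m d → _) j)
    (fun j => form_homog _ j) σ hle
  refine hf ?_
  have : f ∈ Q := hDQ f fun G hG => by
    by_contra hne
    have h := hf' (eval (seqEquiv m d G)) hne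
    have e : (fun j : Fin d => MvPolynomial.map (eval (seqEquiv m d G)) (form X j)) = fun j => (G j).1 := by
      funext j
      rw [form_map]
      simp only [eval_X]
      exact form_self G j
    rw [e] at h
    have h' : m + 2 - d ≤ m + 1 - d := by exact_mod_cast (le_trans hG h)
    omega
  show algebraMap B (FractionRing B) (Ideal.Quotient.mk Q f) = 0
  rw [Ideal.Quotient.eq_zero_iff_mem.2 this, map_zero]

theorem codim_seq {m d : ℕ} (hd : 1 ≤ d) (hdm : d + 2 ≤ m) :
    LefPen.CodimGE k
      {G : (j : Fin d) → LefPen.Form m k (j.1 + 1) |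
        ((m + 2 - d : ℕ) : WithBot ℕ∞) ≤
          ringKrullDim (MvPolynomial (Fin (m + 1)) k ⧸ Ideal.span (Set.range fun j : Fin d => (G j).1))}
      (m + 1) := by
  classical
  exact codimGE_of (seqEquiv m d) _ _ fun Q hQ hDQ => tdeg_seq hd hdm Q hQ hDQ

end Groth.Agent.FanoSeq13
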