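import Groth.Agent.Lib.FanoSeq13.Dim

/-! # Counting parameters through algebraicity of coefficients -/

set_option autoImplicit false
set_option linter.style.haveILetI false
universe u

open MvPolynomial Cardinal

noncomputable section

namespace Groth.Agent.FanoSeq13

/-- A polynomial with algebraic values has algebraic coefficients. -/
theorem isAlgebraic_coeff {F K : Type u} [Field F] [Field K] [Algebra F K] [Infinite F] {r : ℕ}
    (h : MvPolynomial (Fin r) K) {a : MvPolynomial (Fin r) F} (ha : a ≠ 0)
    (hval : ∀ p : Fin r → F, eval p a ≠ 0 → IsAlgebraic F (eval (fun i => algebraMap F K (p i)) h))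
    (e : Fin r →₀ ℕ) : IsAlgebraic F (coeff e h) := by
  classical
  let L := algebraicClosure F K
  rw [← mem_algebraicClosure_iff]
  by_contra hc
  have hc' : coeff e h ∉ Submodule.span L {(1 : K)} := fun hmem => by
    obtain ⟨l, hl⟩ := Submodule.mem_span_singleton.1 hmem
    refine hc ?_
    rw [← hl, show l • (1 : K) = (l : K) from mul_one _]
    exact l.2
  obtain ⟨φ, hφ, hφ1⟩ := Submodule.exists_dual_map_eq_bot_of_notMem hc' inferInstance
  have hφ0 : ∀ l : L, φ (l : K) = 0 := fun l => by
    have := Submodule.mem_map_of_mem (f := φ)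
      (Submodule.smul_mem (Submodule.span L {(1 : K)}) l (Submodule.subset_span rfl))
    rwa [hφ1, Submodule.mem_bot, show l • (1 : K) = (l : K) from mul_one _] at this
  let hφ' : MvPolynomial (Fin r) L := ∑ e' ∈ h.support, monomial e' (φ (coeff e' h))
  have hz : MvPolynomial.map (algebraMap F L) a * hφ' = 0 := by
    refine MvPolynomial.funext_set (fun _ => Set.range (algebraMap F L))
      (fun _ => Set.infinite_range_of_injective (algebraMap F L).injective) fun x hx => ?_
    choose p hp using fun i => hx i (Set.mem_univ i)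
    obtain rfl : (fun i => algebraMap F L (p i)) = x := funext hp
    rw [map_mul, map_zero]
    have e1 : MvPolynomial.eval (fun i => algebraMap F L (p i)) (MvPolynomial.map (algebraMap F L) a) =
        algebraMap F L (eval p a) := by
      rw [eval_map, eval₂_comp]
      rfl
    by_cases h0 : eval p a = 0
    · rw [e1, h0, map_zero, zero_mul]
    · have e2 : MvPolynomial.eval (fun i => algebraMap F L (p i)) hφ' =
          φ (eval (fun i => algebraMap F K (p i)) h) := by
        conv_rhs => rw [h.as_sum, map_sum, map_sum]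
        rw [map_sum]
        refine Finset.sum_congr rfl fun e' _ => ?_
        rw [eval_monomial, eval_monomial]
        have e3 : (e'.prod fun i n => algebraMap F K (p i) ^ n) =
            ((e'.prod fun i n => algebraMap F L (p i) ^ n : L) : K) := by
          simp only [Finsupp.prod, SubmonoidClass.coe_finsetProd, SubmonoidClass.coe_pow]
          rfl
        rw [e3, mul_comm (coeff e' h), mul_comm (φ _), ← smul_eq_mul, ← φ.map_smul]
        rfl
      rw [e2, hφ0 ⟨_, mem_algebraicClosure_iff.2 (hval p h0)⟩, mul_zero]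
  rcases mul_eq_zero.1 hz with h1 | h1
  · exact ha (map_injective _ (algebraMap F L).injective (h1.trans (map_zero _).symm))
  · refine hφ ?_
    by_cases he : e ∈ h.support
    · have := congrArg (coeff e) h1
      rw [coeff_zero, coeff_sum, Finset.sum_eq_single e (fun e' _ hne => by rw [coeff_monomial, if_neg hne])
        (fun hn => absurd he hn), coeff_monomial, if_pos rfl] at this
      exact this
    · rw [notMem_support_iff.1 he, map_zero]

/-- The image of a prime in the polynomial ring. -/
theorem exists_free_vars {K : Type u} [Field K] {n r : ℕ} (P : Ideal (MvPolynomial (Fin n) K)) [P.IsPrime]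
    (hr : VarDim.tdeg K (MvPolynomial (Fin n) K ⧸ P) = r) :
    ∃ T : Fin r ↪ Fin n, AlgebraicIndependent K fun i => Ideal.Quotient.mk P (X (T i)) := by
  classical
  let B := MvPolynomial (Fin n) K ⧸ P
  let x : Fin n → B := fun v => Ideal.Quotient.mk P (X v)
  have htop : Algebra.adjoin K (Set.range x) = ⊤ := by
    rw [show Set.range x = (Ideal.Quotient.mkₐ K P) '' Set.range X from (Set.range_comp _ _),
      ← AlgHom.map_adjoin, MvPolynomial.adjoin_range_X, Algebra.map_top, AlgHom.range_eq_top]
    exact Ideal.Quotient.mkₐ_surjective K P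
  haveI : Algebra.IsAlgebraic (Algebra.adjoin K (Set.range x)) B := by
    refine ⟨fun b => isAlgebraic_algebraMap (⟨b, htop ▸ Algebra.mem_top⟩ : Algebra.adjoin K (Set.range x))⟩
  obtain ⟨t, ht, htb⟩ := exists_isTranscendenceBasis_subset (R := K) (Set.range x)
  have hfin : t.Finite := (Set.finite_range x).subset ht
  haveI := hfin.fintype
  have hcard : Fintype.card t = r := by
    have h1 := htb.cardinalMk_eq_trdeg
    rw [VarDim.trdeg_eq_tdeg K B, hr, Cardinal.mk_fintype] at h1
    exact_mod_cast h1
  let ee : Fin r ≃ t := (Fintype.equivFinOfCardEq hcard).symm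
  choose v hv using fun i : Fin r => ht (ee i).2
  refine ⟨⟨v, fun i j h => ee.injective (Subtype.ext ((hv i).symm.trans ((congrArg x h).trans (hv j))))⟩, ?_⟩
  have := htb.1.comp ee ee.injective
  rw [show (Subtype.val ∘ ee : Fin r → B) = fun i => x (v i) from funext fun i => (hv i).symm] at this
  exact this

/-- If a form lies in a prime of dimension `r`, its coefficients on monomials in `r` free variables are algebraic
over the other coefficients and those of the equations. -/
theorem isAlgebraic_coeff_of_mem {F K : Type u} [Field F] [Field K] [Algebra F K] [Infinite F] [Infinite K]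
    {n q r : ℕ} (deg : Fin q → ℕ) (g : Fin q → MvPolynomial (Fin (n + 1)) F) (hg : ∀ i, (g i).IsHomogeneous (deg i))
    (hdim : ringKrullDim (MvPolynomial (Fin (n + 1)) K ⧸
      Ideal.span (Set.range fun i => MvPolynomial.map (algebraMap F K) (g i))) ≤ r)
    (P : Ideal (MvPolynomial (Fin (n + 1)) K)) [P.IsPrime]
    (hgP : ∀ i, MvPolynomial.map (algebraMap F K) (g i) ∈ P)
    (T : Fin r → Fin (n + 1)) (hT : AlgebraicIndependent K fun i => Ideal.Quotient.mk P (X (T i)))
    (p : MvPolynomial (Fin (n + 1)) F) (h : MvPolynomial (Fin r) K)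
    (hp : MvPolynomial.map (algebraMap F K) p + rename T h ∈ P) (e : Fin r →₀ ℕ) :
    IsAlgebraic F (coeff e h) := by
  classical
  obtain ⟨f, hf, hf'⟩ := lift_dim deg g hg (algebraMap F K) hdim
  have hdimF := hf' (L := F) (RingHom.id F) (fun h0 => hf (by rw [RingHom.id_apply] at h0; rw [h0, map_zero]))
  let σ : MvPolynomial (Fin (n + 1)) F →ₐ[F] MvPolynomial (Fin (n + 1)) K :=
    MvPolynomial.mapAlgHom (Algebra.ofId F K)
  have hσ : ∀ x, σ x = MvPolynomial.map (algebraMap F K) x := fun x => rfl
  let P₀ := P.comap σ.toRingHom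
  haveI : P₀.IsPrime := Ideal.IsPrime.comap _
  let B := MvPolynomial (Fin (n + 1)) F ⧸ P₀
  have htdeg : VarDim.tdeg F B ≤ r := by
    have h1 : ringKrullDim B ≤ r := by
      refine le_trans ?_ hdimF
      refine ringKrullDim_le_of_surjective (Ideal.Quotient.factor ?_) (Ideal.Quotient.factor_surjective _)
      refine Ideal.span_le.2 ?_
      rintro _ ⟨i, rfl⟩
      show MvPolynomial.map (RingHom.id F) (g i) ∈ P₀
      rw [MvPolynomial.map_id]
      exact hgP i
    rw [VarDim.ringKrullDim_eq_tdeg F B] at h1
    exact_mod_cast h1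
  let w : Fin (r + 1) → MvPolynomial (Fin (n + 1)) F := Fin.cons p fun i => X (T i)
  obtain ⟨Φ, hΦ0, hΦ⟩ : ∃ Φ : MvPolynomial (Fin (r + 1)) F, Φ ≠ 0 ∧ aeval w Φ ∈ P₀ := by
    by_contra! hc
    have hind : AlgebraicIndependent F fun i => Ideal.Quotient.mkₐ F P₀ (w i) := by
      rw [algebraicIndependent_iff]
      intro Φ hΦ
      by_contra h0
      refine hc Φ h0 ?_
      rw [← Ideal.Quotient.eq_zero_iff_mem]
      refine Eq.trans ?_ hΦ
      exact (DFunLike.congr_fun (comp_aeval w (Ideal.Quotient.mkₐ F P₀)) Φ)
    have h2 := hind.lift_cardinalMk_le_trdeg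
    rw [VarDim.trdeg_eq_tdeg F B, Cardinal.mk_fin, Cardinal.lift_natCast, Cardinal.lift_natCast] at h2
    have : r + 1 ≤ VarDim.tdeg F B := by exact_mod_cast h2
    omega
  let w' : Fin (r + 1) → MvPolynomial (Fin r) K := Fin.cons (-h) fun i => X i
  have hΨ : aeval w' Φ = 0 := by
    have h3 : rename T (aeval w' Φ) ∈ P := by
      rw [← Ideal.Quotient.eq_zero_iff_mem]
      have h4 : Ideal.Quotient.mk P (σ (aeval w Φ)) = 0 := Ideal.Quotient.eq_zero_iff_mem.2 hΦ
      rw [← h4]
      have e1 : (Ideal.Quotient.mkₐ F P).comp (((rename T).restrictScalars F).comp (aeval w')) =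
          (Ideal.Quotient.mkₐ F P).comp (σ.comp (aeval w)) := by
        refine MvPolynomial.algHom_ext (Fin.cases ?_ fun i => ?_)
        · show Ideal.Quotient.mk P (rename T (aeval w' (X 0))) = Ideal.Quotient.mk P (σ (aeval w (X 0)))
          simp only [aeval_X, w, w', Fin.cons_zero, map_neg, hσ]
          rw [← sub_eq_zero, ← map_neg, ← map_sub, Ideal.Quotient.eq_zero_iff_mem]
          simpa [sub_eq_add_neg, add_comm] using P.neg_mem hp
        · show Ideal.Quotient.mk P (rename T (aeval w' (X i.succ))) = Ideal.Quotient.mk P (σ (aeval w (X i.succ)))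
          simp only [aeval_X, w, w', Fin.cons_succ, rename_X, hσ, map_X]
      exact DFunLike.congr_fun e1 Φ
    refine algebraicIndependent_iff.1 hT _ ?_
    rw [← Ideal.Quotient.eq_zero_iff_mem] at h3
    refine Eq.trans ?_ h3
    have : (aeval fun i => Ideal.Quotient.mk P (X (T i))) = (Ideal.Quotient.mkₐ K P).comp (rename T) :=
      MvPolynomial.algHom_ext fun i => by simp
    rw [this]
    rfl
  let Q := MvPolynomial.finSuccEquiv F r Φ
  obtain ⟨j, hj⟩ : ∃ j, Q.coeff j ≠ 0 := by
    by_contra! hc
    refine hΦ0 ((MvPolynomial.finSuccEquiv F r).injective ?_)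
    rw [map_zero]
    exact Polynomial.ext fun j => (hc j).trans (Polynomial.coeff_zero j).symm
  refine isAlgebraic_coeff h hj (fun x hx => ?_) e
  rw [← neg_neg (eval (fun i => algebraMap F K (x i)) h)]
  apply IsAlgebraic.neg
  refine ⟨Polynomial.map (MvPolynomial.eval x) Q, fun h0 => hx ?_, ?_⟩
  · have := congrArg (fun P => Polynomial.coeff P j) h0
    simpa [Polynomial.coeff_map] using this
  · have h5 := congrArg (eval fun i => algebraMap F K (x i)) hΨ
    rw [map_zero] at h5
    refine Eq.trans ?_ h5
    have e2 : ((Polynomial.aeval (-eval (fun i => algebraMap F K (x i)) h)).comp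
        ((Polynomial.mapAlgHom (MvPolynomial.aeval x)).comp (MvPolynomial.finSuccEquiv F r).toAlgHom)) =
        ((MvPolynomial.aeval fun i => algebraMap F K (x i)).restrictScalars F).comp (MvPolynomial.aeval w') := by
      refine MvPolynomial.algHom_ext (Fin.cases ?_ fun i => ?_)
      · simp [w', MvPolynomial.finSuccEquiv_X_zero, MvPolynomial.aeval_def]
      · simp [w', MvPolynomial.finSuccEquiv_X_succ]
    exact DFunLike.congr_fun e2 Φ

set_option synthInstance.maxHeartbeats 200000 in
open IntermediateField.algebraAdjoinAdjoin in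
/-- The count: coordinates algebraic over the remaining ones do not contribute to the transcendence degree. -/
theorem tdeg_add_card_le {k K : Type u} [Field k] [Field K] [Algebra k K] {ι : Type} [Fintype ι] [DecidableEq ι]
    {B : Type u} [CommRing B] [IsDomain B] [Algebra k B] [Algebra.FiniteType k B] (j : B →ₐ[k] K)
    (hj : Function.Injective j) (c : ι → B) (hc : Algebra.adjoin k (Set.range c) = ⊤) (E : Finset ι)
    (halg : ∀ v ∈ E, IsAlgebraic (IntermediateField.adjoin k ((fun w => j (c w)) '' (↑Eᶜ : Set ι))) (j (c v))) :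
    VarDim.tdeg k B + E.card ≤ Fintype.card ι := by
  classical
  let S : Set K := (fun w => j (c w)) '' (↑Eᶜ : Set ι)
  let F := IntermediateField.adjoin k S
  let L := algebraicClosure F K
  have hmem : ∀ b : B, j b ∈ L := by
    intro b
    have hb : b ∈ Algebra.adjoin k (Set.range c) := hc ▸ Algebra.mem_top
    refine (Algebra.adjoin_le (S := (L.toSubalgebra.restrictScalars k).comap j) ?_) hb
    rintro _ ⟨v, rfl⟩
    show j (c v) ∈ L
    by_cases hv : v ∈ E
    · exact mem_algebraicClosure_iff.2 (halg v hv)
    · exact IntermediateField.algebraMap_mem L (⟨_, IntermediateField.subset_adjoin k _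
        ⟨v, by simpa using hv, rfl⟩⟩ : F)
  let j' : B →ₐ[k] L := j.codRestrict (L.toSubalgebra.restrictScalars k) hmem
  have h1 := trdeg_le_of_injective j' fun a b hab => hj (congrArg Subtype.val hab)
  haveI : Algebra.IsAlgebraic F L := algebraicClosure.isAlgebraic F K
  rw [← trdeg_add_eq k F (A := L), trdeg_eq_zero (R := F) (A := L), add_zero,
    ← trdeg_add_eq k (Algebra.adjoin k S) (A := F), trdeg_eq_zero (R := Algebra.adjoin k S) (A := F),
    add_zero, VarDim.trdeg_eq_tdeg k B] at h1
  let N := (↑Eᶜ : Set ι)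
  let e : Fin (Fintype.card N) ≃ N := (Fintype.equivFin N).symm
  let π : MvPolynomial (Fin (Fintype.card N)) k →ₐ[k] Algebra.adjoin k S :=
    MvPolynomial.aeval fun i => ⟨j (c (e i).1), Algebra.subset_adjoin ⟨_, (e i).2, rfl⟩⟩
  have hπ : Function.Surjective π := by
    rintro ⟨y, hy⟩
    have : y ∈ ((Algebra.adjoin k S).val.comp π).range := by
      refine (Algebra.adjoin_le ?_) hy
      rintro _ ⟨v, hv, rfl⟩
      exact ⟨X (e.symm ⟨v, hv⟩), by simp [π]⟩
    obtain ⟨z, hz⟩ := this
    exact ⟨z, Subtype.ext hz⟩
  have h2 := h1.trans (trdeg_le_of_surjective π hπ)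
  rw [VarDim.trdeg_mvPolynomial k] at h2
  have h3 : VarDim.tdeg k B ≤ Fintype.card N := by exact_mod_cast h2
  have h4 : Fintype.card N = Fintype.card ι - E.card := by
    rw [← Finset.card_compl]
    exact (Fintype.card_congr (Equiv.subtypeEquivRight fun x => Finset.mem_coe)).trans (Fintype.card_coe _)
  have h5 := E.card_le_univ
  omega

end Groth.Agent.FanoSeq13
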