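import Groth.Agent.Lib.ProjDeg17.LinearForms
import Groth.Agent.Lib.VarDim.Alg

/-! # The dimension of a homogeneous system of equations is semicontinuous -/

set_option autoImplicit false
set_option linter.style.haveILetI false
universe u v

open MvPolynomial Order

noncomputable section

namespace Groth.Agent.FanoSeq13

attribute [local instance] MvPolynomial.gradedAlgebra

open Groth.Agent.ProjDeg17

variable {k : Type u} [Field k] {n : ℕ}

/-- If `c` forms cut a homogeneous ideal down to the vertex, the dimension is at most `c`. -/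
theorem dim_le_of_irr_le {c : ℕ} (J : Ideal (MvPolynomial (Fin (n + 1)) k))
    (hJ : J.IsHomogeneous (homogeneousSubmodule (Fin (n + 1)) k))
    (h : Fin c → MvPolynomial (Fin (n + 1)) k) (hh : ∀ i, h i ∈ irr k n)
    (hrad : irr k n ≤ (J ⊔ Ideal.span (Set.range h)).radical) :
    ringKrullDim (MvPolynomial (Fin (n + 1)) k ⧸ J) ≤ c := by
  classical
  rw [ringKrullDim, Order.krullDim_eq_iSup_coheight]
  refine iSup_le fun p => ?_
  let p₀ : PrimeSpectrum (MvPolynomial (Fin (n + 1)) k) := PrimeSpectrum.comap (Ideal.Quotient.mk J) p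
  have hJp : J ≤ p₀.asIdeal := fun x hx => by
    show Ideal.Quotient.mk J x ∈ p.asIdeal
    rw [Ideal.Quotient.eq_zero_iff_mem.2 hx]
    exact zero_mem _
  obtain ⟨P, hP, hPp⟩ := Ideal.exists_minimalPrimes_le hJp
  haveI := hP.1.1
  have h1 : coheight p ≤ coheight p₀ := coheight_le_coheight_apply_of_strictMono _
    (RingHom.strictMono_comap_of_surjective Ideal.Quotient.mk_surjective) p
  have h2 : coheight p₀ ≤ coheight (⟨P, hP.1.1⟩ : PrimeSpectrum (MvPolynomial (Fin (n + 1)) k)) :=
    coheight_anti (show (⟨P, hP.1.1⟩ : PrimeSpectrum _) ≤ p₀ from hPp)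
  rw [VarDim.coheight_eq_tdeg k _ ⟨P, hP.1.1⟩] at h2
  let B := MvPolynomial (Fin (n + 1)) k ⧸ P
  let f : MvPolynomial (Fin (n + 1)) k →+* B := Ideal.Quotient.mk P
  have hPirr : P ≤ irr k n := le_irr_of_isHomogeneous (isHomogeneous_of_mem_minimalPrimes hJ hP) hP.1.1.ne_top
  haveI := isMaximal_irr k n
  let m : Ideal B := (irr k n).map f
  haveI hm : m.IsMaximal := Ideal.IsMaximal.map_of_surjective_of_ker_le Ideal.Quotient.mk_surjective
    (by rw [Ideal.mk_ker]; exact hPirr)
  have hmin : m ∈ (Ideal.span ((Finset.univ.image fun i => f (h i) : Finset B) : Set B)).minimalPrimes := by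
    refine ⟨⟨hm.isPrime, Ideal.span_le.2 ?_⟩, ?_⟩
    · intro x hx
      obtain ⟨i, -, rfl⟩ := Finset.mem_image.1 hx
      exact Ideal.mem_map_of_mem _ (hh i)
    · rintro q ⟨hq, hhq⟩ -
      haveI := hq
      refine Ideal.map_le_iff_le_comap.2 (hrad.trans ((Ideal.IsPrime.radical_le_iff (hq.comap f)).2 (sup_le ?_ ?_)))
      · intro x hx
        show f x ∈ q
        rw [show f x = 0 from Ideal.Quotient.eq_zero_iff_mem.2 (hP.1.2 hx)]
        exact zero_mem _
      · refine Ideal.span_le.2 ?_
        rintro _ ⟨i, rfl⟩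
        exact hhq (Ideal.subset_span (Finset.mem_image.2 ⟨i, Finset.mem_univ _, rfl⟩))
  have h3 := Ideal.height_le_card_of_mem_minimalPrimes_span_finset hmin
  have h4 := VarDim.height_add_coheight_nat k B ⟨m, hm.isPrime⟩
  have h5 : coheight (⟨m, hm.isPrime⟩ : PrimeSpectrum B) = 0 := by
    rw [coheight_eq_zero]
    intro q hq
    exact le_of_eq (PrimeSpectrum.ext (hm.eq_of_le q.2.ne_top hq).symm)
  rw [h5, add_zero] at h4
  rw [← PrimeSpectrum.height_eq_orderHeight] at h4
  have h6 : ((Finset.univ.image fun i => f (h i) : Finset B).card : ℕ∞) ≤ (c : ℕ∞) := by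
    exact_mod_cast Finset.card_image_le.trans_eq (Finset.card_fin c)
  have h7 : (VarDim.tdeg k B : ℕ∞) ≤ (c : ℕ∞) := h4.symm.le.trans (h3.trans h6)
  exact WithBot.coe_le_coe.2 (h1.trans (h2.trans h7))

theorem linear_eq {p : MvPolynomial (Fin (n + 1)) k} (hp : p.IsHomogeneous 1) :
    p = ∑ v, MvPolynomial.C (coeff (Finsupp.single v 1) p) * X v := by
  classical
  ext e
  simp only [coeff_sum, coeff_C_mul, coeff_X']
  by_cases he : e.degree = 1
  · obtain ⟨v, rfl⟩ : ∃ v, Finsupp.single v 1 = e := by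
      have : e ∈ Set.range fun a => Finsupp.single a 1 := by rw [Finsupp.range_single_one]; exact he
      exact this
    rw [Finset.sum_eq_single v (fun w _ hw => by simp [Finsupp.single_left_inj, hw]) (by simp)]
    simp
  · rw [hp.coeff_eq_zero he, Finset.sum_eq_zero fun w _ => ?_]
    rw [if_neg fun h => he (by rw [← h, Finsupp.degree_single]), mul_zero]

theorem linear_mem_irr {p : MvPolynomial (Fin (n + 1)) k} (hp : p.IsHomogeneous 1) : p ∈ irr k n := by
  rw [linear_eq hp]
  exact Ideal.sum_mem _ fun v _ => Ideal.mul_mem_left _ _ (Ideal.subset_span ⟨v, rfl⟩)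

theorem monomial_mem_pow {M : ℕ} (e : Fin (n + 1) →₀ ℕ) (he : e.degree = M) :
    monomial e (1 : k) ∈ irr k n ^ M := by
  rw [← prod_X_pow_eq_monomial, ← he, Finsupp.degree_apply]
  rw [← Finset.prod_pow_eq_pow_sum]
  exact Ideal.prod_mem_prod fun i _ => Ideal.pow_mem_pow (Ideal.subset_span (Set.mem_range_self i)) _

/-- The coefficient vectors. -/
def row {R : Type u} [CommRing R] {κ : Type v} (g : κ → MvPolynomial (Fin (n + 1)) R) (M : ℕ)
    (col : κ × (Fin (n + 1) →₀ ℕ)) (o : {e : Fin (n + 1) →₀ ℕ // e.degree = M}) : R :=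
  coeff o.1 (monomial col.2 1 * g col.1)

theorem row_map {R R' : Type u} [CommRing R] [CommRing R'] (σ : R →+* R') {κ : Type v}
    (g : κ → MvPolynomial (Fin (n + 1)) R) (M : ℕ) (col : κ × (Fin (n + 1) →₀ ℕ))
    (o : {e : Fin (n + 1) →₀ ℕ // e.degree = M}) :
    row (fun q => MvPolynomial.map σ (g q)) M col o = σ (row g M col o) := by
  simp only [row]
  rw [← coeff_map, map_mul, map_monomial, σ.map_one]

/-- The degree-`M` monomials. -/
instance (M : ℕ) : Fintype {e : Fin (n + 1) →₀ ℕ // e.degree = M} :=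
  Fintype.ofFinset ((Finset.univ : Finset (Fin (n + 1))).finsuppAntidiag M)
    fun e => by simp [Finset.mem_finsuppAntidiag, Finsupp.degree_eq_sum]; exact Iff.rfl

/-- A bound on the dimension of a system of forms persists on a basic open set of coefficient rings. -/
theorem lift_dim {A : Type u} [CommRing A] {d c : ℕ} (deg : Fin d → ℕ)
    (G : Fin d → MvPolynomial (Fin (n + 1)) A) (hG : ∀ j, (G j).IsHomogeneous (deg j))
    {K : Type u} [Field K] [Infinite K] (σ : A →+* K)
    (hdim : ringKrullDim (MvPolynomial (Fin (n + 1)) K ⧸ Ideal.span (Set.range fun j => MvPolynomial.map σ (G j))) ≤ c) :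
    ∃ f : A, σ f ≠ 0 ∧ ∀ {L : Type u} [Field L] [Infinite L] (τ : A →+* L), τ f ≠ 0 →
      ringKrullDim (MvPolynomial (Fin (n + 1)) L ⧸ Ideal.span (Set.range fun j => MvPolynomial.map τ (G j))) ≤ c := by
  classical
  have hhom : ∀ (L : Type u) [Field L] (τ : A →+* L),
      (Ideal.span (Set.range fun j => MvPolynomial.map τ (G j))).IsHomogeneous (homogeneousSubmodule (Fin (n + 1)) L) :=
    fun L _ τ => Ideal.homogeneous_span _ _ (by
      rintro _ ⟨j, rfl⟩
      exact ⟨deg j, (mem_homogeneousSubmodule _ _).2 ((hG j).map τ)⟩)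
  obtain ⟨h, hh, M, hM⟩ := exists_linearForms_pow_le _ (hhom K σ) c hdim
  -- the universal system
  let A' := MvPolynomial (Fin c × Fin (n + 1)) A
  let g : Fin d ⊕ Fin c → MvPolynomial (Fin (n + 1)) A' :=
    Sum.elim (fun j => MvPolynomial.map MvPolynomial.C (G j)) fun i => ∑ v, MvPolynomial.C (X (i, v)) * X v
  let dg : Fin d ⊕ Fin c → ℕ := Sum.elim deg fun _ => 1
  have hg : ∀ q, (g q).IsHomogeneous (dg q) := by
    rintro (j | i)
    · exact (hG j).map _
    · refine IsHomogeneous.sum _ _ _ fun v _ => ?_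
      exact (isHomogeneous_X _ v).C_mul _
  let σ' : A' →+* K := eval₂Hom σ fun p => coeff (Finsupp.single p.2 1) (h p.1)
  let T := {e : Fin (n + 1) →₀ ℕ // e.degree = M}
  have hgK : Set.range (fun q => MvPolynomial.map σ' (g q)) =
      Set.range (fun j => MvPolynomial.map σ (G j)) ∪ Set.range h := by
    have e1 : ∀ j, MvPolynomial.map σ' (g (Sum.inl j)) = MvPolynomial.map σ (G j) := fun j => by
      simp only [g, Sum.elim_inl, MvPolynomial.map_map]
      rw [show σ'.comp MvPolynomial.C = σ from RingHom.ext fun a => eval₂Hom_C _ _ a]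
    have e2 : ∀ i, MvPolynomial.map σ' (g (Sum.inr i)) = h i := fun i => by
      simp only [g, Sum.elim_inr, map_sum, map_mul, map_C, map_X]
      refine Eq.trans (Finset.sum_congr rfl fun v _ => ?_) (linear_eq (hh i)).symm
      rw [show σ' (X (i, v)) = coeff (Finsupp.single v 1) (h i) from eval₂Hom_X' _ _ _]
    ext x
    simp only [Set.mem_range, Sum.exists, e1, e2, Set.mem_union]
  have hspan : Submodule.span K (Set.range (row (fun q => MvPolynomial.map σ' (g q)) M)) = (⊤ : Submodule K (T → K)) := by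
    refine eq_top_iff.2 fun w _ => ?_
    rw [pi_eq_sum_univ' w]
    refine Submodule.sum_mem _ fun o _ => Submodule.smul_mem _ _ ?_
    have hmem : monomial o.1 (1 : K) ∈ Ideal.span (Set.range fun q => MvPolynomial.map σ' (g q)) := by
      rw [hgK, Ideal.span_union]
      exact hM (monomial_mem_pow o.1 o.2)
    obtain ⟨a, ha⟩ := (Submodule.mem_span_range_iff_exists_fun _).1 hmem
    have e : (Pi.single o 1 : T → K) = ∑ q, ∑ e ∈ (a q).support,
        coeff e (a q) • row (fun q => MvPolynomial.map σ' (g q)) M (q, e) := by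
      funext o'
      simp only [Finset.sum_apply, Pi.smul_apply, smul_eq_mul, row]
      have h0 := congrArg (coeff o'.1) ha
      rw [coeff_sum, coeff_monomial] at h0
      rw [Pi.single_apply]
      refine Eq.trans ?_ (h0.symm.trans (Finset.sum_congr rfl fun q _ => ?_))
      · exact if_congr ⟨fun h => by rw [h], fun h => (Subtype.ext h).symm⟩ rfl rfl
      · conv_lhs => rw [smul_eq_mul, (a q).as_sum, Finset.sum_mul, coeff_sum]
        refine Finset.sum_congr rfl fun e _ => ?_
        rw [← coeff_C_mul, ← mul_assoc, C_mul_monomial, mul_one]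
    rw [e]
    exact Submodule.sum_mem _ fun q _ => Submodule.sum_mem _ fun e _ =>
      Submodule.smul_mem _ _ (Submodule.subset_span ⟨(q, e), rfl⟩)
  obtain ⟨fK, hfS, hfspan, hfli⟩ := Submodule.exists_fun_fin_finrank_span_eq K
    (Set.range (row (fun q => MvPolynomial.map σ' (g q)) M))
  have hr : Module.finrank K (Submodule.span K (Set.range (row (fun q => MvPolynomial.map σ' (g q)) M))) =
      Fintype.card T := by
    rw [hspan, finrank_top, Module.finrank_pi]
  let ee : T ≃ Fin (Module.finrank K (Submodule.span K (Set.range (row (fun q => MvPolynomial.map σ' (g q)) M)))) :=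
    (Fintype.equivFin T).trans (finCongr hr.symm)
  choose col hcol using fun o : T => hfS (ee o)
  let Mx : Matrix T T A' := Matrix.of fun o o' => row g M (col o) o'
  have hdet : σ' Mx.det ≠ 0 := by
    rw [RingHom.map_det]
    refine IsUnit.ne_zero ((Matrix.isUnit_iff_isUnit_det _).1 (Matrix.linearIndependent_rows_iff_isUnit.1 ?_))
    have e : (σ'.mapMatrix Mx).row = fun o => fK (ee o) := by
      funext o o'
      rw [← hcol]
      show σ' (row g M (col o) o') = _
      rw [row_map]
    rw [e]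
    exact hfli.comp _ ee.injective
  have hcoldeg : ∀ o, (col o).2.degree + dg (col o).1 = M := by
    intro o
    by_contra hne
    refine hfli.ne_zero (ee o) ?_
    rw [← hcol]
    funext o'
    show coeff o'.1 _ = 0
    refine IsHomogeneous.coeff_eq_zero ((isHomogeneous_monomial (1 : K) rfl).mul ((hg _).map σ')) ?_
    rw [o'.2]
    exact Ne.symm hne
  obtain ⟨α, hα⟩ : ∃ α, σ (coeff α Mx.det) ≠ 0 := by
    by_contra! hc
    apply hdet
    show eval₂ σ _ Mx.det = 0
    rw [eval₂_eq]
    exact Finset.sum_eq_zero fun α _ => by rw [hc, zero_mul]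
  refine ⟨_, hα, fun {L} _ _ τ hτ => ?_⟩
  obtain ⟨u, hu⟩ : ∃ u : Fin c × Fin (n + 1) → L, eval u (MvPolynomial.map τ Mx.det) ≠ 0 := by
    by_contra! hc
    have : MvPolynomial.map τ Mx.det = 0 := MvPolynomial.funext fun u => by rw [hc, map_zero]
    exact hτ (by rw [← coeff_map, this, coeff_zero])
  obtain ⟨τ', hu', hτ'C⟩ : ∃ τ' : A' →+* L, τ' Mx.det ≠ 0 ∧ τ'.comp MvPolynomial.C = τ :=
    ⟨(MvPolynomial.eval u).comp (MvPolynomial.map τ), by simpa only [RingHom.comp_apply] using hu,
      RingHom.ext fun a => by rw [RingHom.comp_apply, RingHom.comp_apply, map_C, eval_C]⟩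
  refine dim_le_of_irr_le _ (hhom L τ) (fun i => MvPolynomial.map τ' (g (Sum.inr i)))
    (fun i => linear_mem_irr ((hg (Sum.inr i)).map τ')) ?_
  have hL : ∀ o : T, monomial o.1 (1 : L) ∈ Ideal.span (Set.range fun q => MvPolynomial.map τ' (g q)) := by
    have hU : IsUnit (τ'.mapMatrix Mx) := (Matrix.isUnit_iff_isUnit_det _).2 (by
      rw [← RingHom.map_det]
      exact hu'.isUnit)
    intro o
    obtain ⟨b, hb⟩ := (Matrix.vecMul_surjective_iff_isUnit.2 hU) (Pi.single o 1)
    have e : monomial o.1 (1 : L) = ∑ o₁, monomial (col o₁).2 (b o₁) * MvPolynomial.map τ' (g (col o₁).1) := by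
      ext e'
      rw [coeff_sum, coeff_monomial]
      by_cases he' : e'.degree = M
      · have h0 := congrFun hb ⟨e', he'⟩
        rw [Pi.single_apply] at h0
        refine Eq.trans ?_ (h0.symm.trans (Finset.sum_congr rfl fun o₁ _ => ?_))
        · exact if_congr ⟨fun h => Subtype.ext h.symm, fun h => (congrArg Subtype.val h).symm⟩ rfl rfl
        · simp only [RingHom.mapMatrix_apply, Matrix.map_apply, Mx, Matrix.of_apply, row]
          rw [← coeff_map, map_mul, map_monomial, τ'.map_one, ← coeff_C_mul, ← mul_assoc, C_mul_monomial, mul_one]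
      · rw [if_neg fun (h : o.1 = e') => he' (h ▸ o.2)]
        exact (Finset.sum_eq_zero fun o₁ _ => IsHomogeneous.coeff_eq_zero
          ((isHomogeneous_monomial (b o₁) rfl).mul ((hg _).map τ')) (hcoldeg o₁ ▸ he')).symm
    rw [e]
    exact Ideal.sum_mem _ fun o₁ _ => Ideal.mul_mem_left _ _ (Ideal.subset_span ⟨_, rfl⟩)
  refine Ideal.span_le.2 ?_
  rintro _ ⟨v, rfl⟩
  refine ⟨M, ?_⟩
  have hle : Ideal.span (Set.range fun q => MvPolynomial.map τ' (g q)) ≤
      Ideal.span (Set.range fun j => MvPolynomial.map τ (G j)) ⊔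
        Ideal.span (Set.range fun i => MvPolynomial.map τ' (g (Sum.inr i))) := by
    refine Ideal.span_le.2 ?_
    rintro _ ⟨j | i, rfl⟩
    · refine Ideal.mem_sup_left (Ideal.subset_span ⟨j, ?_⟩)
      simp only [g, Sum.elim_inl, MvPolynomial.map_map]
      rw [hτ'C]
    · exact Ideal.mem_sup_right (Ideal.subset_span ⟨i, rfl⟩)
  refine hle ?_
  rw [X_pow_eq_monomial]
  exact hL ⟨Finsupp.single v M, Finsupp.degree_single _ _⟩

end Groth.Agent.FanoSeq13
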