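import Groth.Agent.Lib.FanoSeq13.Count
import Groth.Agent.Lib.LefPen13.Fun
import Groth.Agent.Lib.LefPen22.FormsGeneric
import Groth.Prelude.Def_W4c2ratcurvhypCodim

/-! # Sequences of forms with too large an intersection -/

set_option autoImplicit false
set_option linter.style.haveILetI false
universe u

open MvPolynomial Cardinal

noncomputable section

namespace Groth.Agent.FanoSeq13

attribute [local instance] MvPolynomial.gradedAlgebra

/-- Exponents of degree `D`. -/
abbrev Expo (n D : ℕ) : Type := {e : Fin (n + 1) →₀ ℕ // e.degree = D}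

theorem le_choose : ∀ (m D : ℕ), 1 ≤ D → D ≤ m → m + 1 ≤ (m + 1).choose D
  | 0, D, h1, h2 => by omega
  | m + 1, D, h1, h2 => by
    obtain ⟨D', rfl⟩ : ∃ D', D = D' + 1 := ⟨D - 1, by omega⟩
    rcases Nat.lt_or_ge m (D' + 1) with h | h
    · obtain rfl : D' = m := by omega
      rw [Nat.choose_succ_self_right]
    · have := le_choose m (D' + 1) h1 h
      have : 0 < (m + 1).choose D' := Nat.choose_pos (by omega)
      rw [Nat.choose_succ_succ' (m + 1) D']
      omega

theorem card_deg_ge {m r D : ℕ} (h1 : 1 ≤ D) (h2 : D ≤ m) (hrD : r + D = m + 2) :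
    m + 1 ≤ Nat.card {e : Fin r →₀ ℕ // e.degree = D} := by
  classical
  let T := (Finset.univ : Finset (Fin r)).finsuppAntidiag D
  rw [Nat.card_congr (Equiv.subtypeEquivRight (q := fun e => e ∈ T) fun e => by
    simp [T, Finset.mem_finsuppAntidiag, Finsupp.degree_eq_sum]), Nat.card_eq_fintype_card, Fintype.card_coe,
    Finset.card_finsuppAntidiag_nat_eq_choose, Finset.card_univ, Fintype.card_fin,
    show r + D - 1 = m + 1 by omega]
  exact le_choose m D h1 h2

/-- A prime of dimension `r` misses a space of forms of dimension the number of monomials in `r` variables. -/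
theorem finrank_add_le {k : Type u} [Field k] {n r D : ℕ} (P : Ideal (MvPolynomial (Fin (n + 1)) k)) [P.IsPrime]
    (hr : VarDim.tdeg k (MvPolynomial (Fin (n + 1)) k ⧸ P) = r)
    (W : Submodule k (MvPolynomial (Fin (n + 1)) k)) (hW : W ≤ CohB1.polyGrading n k D)
    (hWP : ∀ x ∈ W, x ∈ P) :
    Nat.card {e : Fin r →₀ ℕ // e.degree = D} + Module.finrank k W ≤ Module.finrank k (CohB1.polyGrading n k D) := by
  classical
  obtain ⟨T, hT⟩ := exists_free_vars P hr
  haveI : Module.Finite k (CohB1.polyGrading n k D) := (Groth.Agent.LefPen22.finrank_form k n D).2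
  let φ : CohB1.polyGrading n k D →ₗ[k] MvPolynomial (Fin (n + 1)) k ⧸ P :=
    (Ideal.Quotient.mkₐ k P).toLinearMap ∘ₗ Submodule.subtype _
  let v : {e : Fin r →₀ ℕ // e.degree = D} → CohB1.polyGrading n k D := fun e =>
    ⟨rename T (monomial e.1 1), (mem_homogeneousSubmodule D _).2 ((isHomogeneous_monomial _ e.2).rename_isHomogeneous)⟩
  haveI : Fintype {e : Fin r →₀ ℕ // e.degree = D} := Fintype.ofFinset
    ((Finset.univ : Finset (Fin r)).finsuppAntidiag D)
    fun e => by simp [Finset.mem_finsuppAntidiag, Finsupp.degree_eq_sum]; exact Iff.rfl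
  have hli : LinearIndependent k (φ ∘ v) := by
    have h1 : LinearIndependent k fun e : {e : Fin r →₀ ℕ // e.degree = D} => (monomial e.1 (1 : k)) :=
      (MvPolynomial.basisMonomials (Fin r) k).linearIndependent.comp _ Subtype.val_injective
    have e2 : (aeval fun i => Ideal.Quotient.mk P (X (T i))) = (Ideal.Quotient.mkₐ k P).comp (rename T) :=
      MvPolynomial.algHom_ext fun i => by simp
    have h2 := h1.map' (aeval fun i => Ideal.Quotient.mk P (X (T i))).toLinearMap (LinearMap.ker_eq_bot.2 hT)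
    rw [e2] at h2
    exact h2
  have hker : (W.comap (Submodule.subtype (CohB1.polyGrading n k D))) ≤ LinearMap.ker φ := fun x hx => by
    rw [LinearMap.mem_ker]
    exact Ideal.Quotient.eq_zero_iff_mem.2 (hWP _ hx)
  have h2 := LinearMap.finrank_range_add_finrank_ker φ
  have h3 := Submodule.finrank_mono hker
  rw [(Submodule.comapSubtypeEquivOfLe hW).finrank_eq] at h3
  have h4 : Nat.card {e : Fin r →₀ ℕ // e.degree = D} ≤ Module.finrank k (LinearMap.range φ) := by
    rw [Nat.card_eq_fintype_card, ← finrank_span_eq_card hli]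
    exact Submodule.finrank_mono (Submodule.span_le.2 (Set.range_subset_iff.2 fun e => ⟨v e, rfl⟩))
  omega

theorem tdeg_le {k : Type u} [Field k] {n r : ℕ} {J P : Ideal (MvPolynomial (Fin n) k)} [P.IsPrime] (h : J ≤ P)
    (hr : ringKrullDim (MvPolynomial (Fin n) k ⧸ J) ≤ r) : VarDim.tdeg k (MvPolynomial (Fin n) k ⧸ P) ≤ r := by
  have h' := (ringKrullDim_le_of_surjective (Ideal.Quotient.factor h) (Ideal.Quotient.factor_surjective _)).trans hr
  rw [VarDim.ringKrullDim_eq_tdeg k] at h'
  exact_mod_cast h'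

theorem exists_prime {k : Type u} [Field k] {n r : ℕ} (J : Ideal (MvPolynomial (Fin n) k))
    (hr : (r : WithBot ℕ∞) ≤ ringKrullDim (MvPolynomial (Fin n) k ⧸ J)) :
    ∃ P : Ideal (MvPolynomial (Fin n) k), P.IsPrime ∧ J ≤ P ∧ r ≤ VarDim.tdeg k (MvPolynomial (Fin n) k ⧸ P) := by
  obtain ⟨l, hl⟩ := Order.le_krullDim_iff.1 hr
  let P : PrimeSpectrum (MvPolynomial (Fin n) k) := PrimeSpectrum.comap (Ideal.Quotient.mk J) l.head
  refine ⟨P.asIdeal, P.2, fun x hx => ?_, ?_⟩
  · show Ideal.Quotient.mk _ x ∈ l.head.asIdeal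
    rw [Ideal.Quotient.eq_zero_iff_mem.2 hx]
    exact zero_mem _
  · have h : ((r : ℕ) : ℕ∞) ≤ Order.coheight P := by
      refine le_trans ?_ (Order.coheight_le_coheight_apply_of_strictMono _
        (RingHom.strictMono_comap_of_surjective Ideal.Quotient.mk_surjective) l.head)
      rw [← hl]
      exact Order.length_le_coheight le_rfl
    rw [VarDim.coheight_eq_tdeg k] at h
    exact_mod_cast h

theorem finrank_ideal {m d : ℕ} (hd : 1 ≤ d) (hdm : d + 1 ≤ m) {k : Type u} [Field k]
    (I : Ideal (MvPolynomial (Fin (m + 1)) k)) (hirr : I.radical.IsPrime)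
    (hdim : ringKrullDim (MvPolynomial (Fin (m + 1)) k ⧸ I) = ((m + 1 - d : ℕ) : WithBot ℕ∞)) :
    m + 1 + Module.finrank k ↥(CohB1.polyGrading m k (d + 1) ⊓ Submodule.restrictScalars k I)
      ≤ Module.finrank k (LefPen.Form m k (d + 1)) := by
  haveI := hirr
  have hr : VarDim.tdeg k (MvPolynomial (Fin (m + 1)) k ⧸ I.radical) = m + 1 - d := by
    have h : ringKrullDim (MvPolynomial (Fin (m + 1)) k ⧸ I.radical) =
        ringKrullDim (MvPolynomial (Fin (m + 1)) k ⧸ I) := by
      rw [ringKrullDim_quotient, ringKrullDim_quotient, PrimeSpectrum.zeroLocus_radical]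
    rw [hdim, VarDim.ringKrullDim_eq_tdeg k] at h
    exact_mod_cast h
  refine le_trans ?_ (finrank_add_le I.radical hr _ inf_le_left fun x hx => Ideal.le_radical ((Submodule.restrictScalars_mem k I x).1 hx.2))
  refine Nat.add_le_add_right (card_deg_ge (by omega) hdm (by omega)) _

/-! ## The locus of sequences -/

variable {k : Type u} [Field k] {m d : ℕ}

/-- The coordinates on sequences of forms. -/
abbrev Idx (m d : ℕ) : Type := Σ j : Fin d, Expo m (j.1 + 1)

/-- Forms with given coefficients. -/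
def form {R : Type u} [CommRing R] (c : Idx m d → R) (j : Fin d) : MvPolynomial (Fin (m + 1)) R :=
  ∑ e : Expo m (j.1 + 1), monomial e.1 (c ⟨j, e⟩)

theorem form_map {R R' : Type u} [CommRing R] [CommRing R'] (σ : R →+* R') (c : Idx m d → R) (j : Fin d) :
    MvPolynomial.map σ (form c j) = form (fun v => σ (c v)) j := by
  simp [form, map_monomial]

theorem form_homog {R : Type u} [CommRing R] (c : Idx m d → R) (j : Fin d) :
    (form c j).IsHomogeneous (j.1 + 1) :=
  IsHomogeneous.sum _ _ _ fun e _ => isHomogeneous_monomial _ e.2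

theorem form_coeff {R : Type u} [CommRing R] (j : Fin d) (p : MvPolynomial (Fin (m + 1)) R) (hp : p.IsHomogeneous (j.1 + 1))
    (c : Idx m d → R) (hc : ∀ e, c ⟨j, e⟩ = coeff e.1 p) : form c j = p := by
  classical
  ext e
  rw [form, coeff_sum]
  simp only [coeff_monomial]
  by_cases he : e.degree = j.1 + 1
  · rw [Finset.sum_eq_single ⟨e, he⟩ (fun e' _ hne => if_neg fun h => hne (Subtype.ext h)) (by simp), if_pos rfl, hc]
  · rw [hp.coeff_eq_zero he]
    exact Finset.sum_eq_zero fun e' _ => if_neg fun (h : e'.1 = e) => he (h ▸ e'.2)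

/-- The locus has small transcendence degree. -/
theorem tdeg_bound [Infinite k] (hd : 1 ≤ d) (hdm : d + 2 ≤ m) {B : Type u} [CommRing B] [IsDomain B]
    [Algebra k B] [Algebra.FiniteType k B] (c : Idx m d → B) (hc : Algebra.adjoin k (Set.range c) = ⊤)
    (hbig : ((m + 2 - d : ℕ) : WithBot ℕ∞) ≤ ringKrullDim (MvPolynomial (Fin (m + 1)) (FractionRing B) ⧸
      Ideal.span (Set.range fun j : Fin d => form (fun v => algebraMap B (FractionRing B) (c v)) j))) :
    VarDim.tdeg k B + (m + 1) ≤ Fintype.card (Idx m d) := by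
  classical
  let K := FractionRing B
  haveI : Infinite K := Infinite.of_injective _ (algebraMap k K).injective
  let cK : Idx m d → K := fun v => algebraMap B K (c v)
  let J : ℕ → Ideal (MvPolynomial (Fin (m + 1)) K) := fun i =>
    Ideal.span ((fun j : Fin d => form cK j) '' {j | j.1 < i})
  let S := MvPolynomial (Fin (m + 1)) K
  have hJd : J d = Ideal.span (Set.range fun j : Fin d => form cK j) := by
    simp only [J, Fin.is_lt, Set.ofPred_true, Set.image_univ]
  have hex : ∃ i, i ≤ d ∧ ((m + 2 - i : ℕ) : WithBot ℕ∞) ≤ ringKrullDim (S ⧸ J i) :=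
    ⟨d, le_rfl, by rw [hJd]; exact hbig⟩
  obtain ⟨hi1, hi2⟩ := Nat.find_spec hex
  have hJ0 : ringKrullDim (S ⧸ J 0) ≤ ((m + 1 : ℕ) : WithBot ℕ∞) := by
    refine (ringKrullDim_quotient_le _).trans ?_
    rw [MvPolynomial.ringKrullDim_of_isNoetherianRing, ringKrullDim_eq_zero_of_field, zero_add, Nat.card_eq_fintype_card,
      Fintype.card_fin]
  obtain ⟨j, hj⟩ : ∃ j, Nat.find hex = j + 1 := by
    refine ⟨Nat.find hex - 1, ?_⟩
    rcases Nat.eq_zero_or_pos (Nat.find hex) with h0 | h0
    · rw [h0] at hi2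
      have := hi2.trans hJ0
      have : m + 2 - 0 ≤ m + 1 := by exact_mod_cast this
      omega
    · omega
  rw [hj] at hi1 hi2
  have hnot := Nat.find_min hex (show j < Nat.find hex by omega)
  have hr1 : ringKrullDim (S ⧸ J j) ≤ ((m + 1 - j : ℕ) : WithBot ℕ∞) := by
    show Order.krullDim _ ≤ _
    rw [Order.krullDim]
    refine iSup_le fun l => ?_
    by_contra hlt
    push Not at hlt
    refine hnot ⟨by omega, le_trans ?_ (Order.LTSeries.length_le_krullDim l)⟩
    have hlt' : m + 1 - j < l.length := by exact_mod_cast hlt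
    exact_mod_cast (show m + 2 - j ≤ l.length by omega)
  let r := m + 1 - j
  obtain ⟨P, hPp, hP, hrle⟩ := exists_prime (J (j + 1)) (r := r) (by rwa [show r = m + 2 - (j + 1) by omega])
  haveI := hPp
  have hJmono : J j ≤ J (j + 1) := Ideal.span_mono (Set.image_mono fun i (hi : i.1 < j) => Nat.lt_succ_of_lt hi)
  have hr : VarDim.tdeg K (S ⧸ P) = r := le_antisymm (tdeg_le (hJmono.trans hP) hr1) hrle
  obtain ⟨T, hT⟩ := exists_free_vars P hr
  let jj : Fin d := ⟨j, by omega⟩
  let inj : {e : Fin r →₀ ℕ // e.degree = j + 1} → Idx m d := fun e =>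
    ⟨jj, ⟨Finsupp.mapDomain T e.1, (Finsupp.degree_mapDomain _ _).trans e.2⟩⟩
  haveI : Fintype {e : Fin r →₀ ℕ // e.degree = j + 1} := Fintype.ofFinset
    ((Finset.univ : Finset (Fin r)).finsuppAntidiag (j + 1))
    fun e => by simp [Finset.mem_finsuppAntidiag, Finsupp.degree_eq_sum]; exact Iff.rfl
  have hinj : Function.Injective inj := fun e e' h => by
    have h' := congrArg (fun v : Idx m d => v.2.1) h
    exact Subtype.ext (Finsupp.mapDomain_injective T.injective h')
  let E : Finset (Idx m d) := Finset.univ.image inj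
  have hEcard : m + 1 ≤ E.card := by
    rw [Finset.card_image_of_injective _ hinj, Finset.card_univ, ← Nat.card_eq_fintype_card]
    exact card_deg_ge (by omega) (by omega) (by omega)
  refine le_trans (Nat.add_le_add_left hEcard _) ?_
  refine tdeg_add_card_le (K := K) (IsScalarTower.toAlgHom k B K) (IsFractionRing.injective B K) c hc E ?_
  intro v hv
  obtain ⟨e, -, rfl⟩ := Finset.mem_image.1 hv
  let F := IntermediateField.adjoin k ((fun w => cK w) '' (↑Eᶜ : Set (Idx m d)))
  show IsAlgebraic F (cK (inj e))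
  haveI : Infinite F := Infinite.of_injective _ (algebraMap k F).injective
  let cF : Idx m d → F := fun w => if hw : w ∈ E then 0 else
    ⟨cK w, IntermediateField.subset_adjoin k _ ⟨w, by simpa using hw, rfl⟩⟩
  have hcF : ∀ w, w ∉ E → algebraMap F K (cF w) = cK w := fun w hw => by
    simp only [cF, dif_neg hw]
    rfl
  have hne : ∀ i : Fin d, i.1 < j → ∀ e', (⟨i, e'⟩ : Idx m d) ∉ E := fun i hi e' h => by
    obtain ⟨e'', -, he''⟩ := Finset.mem_image.1 h
    have := congrArg (fun v : Idx m d => v.1.1) he''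
    simp only [inj, jj] at this
    omega
  have hg : ∀ i : Fin j, MvPolynomial.map (algebraMap F K) (form cF ⟨i.1, by omega⟩) = form cK ⟨i.1, by omega⟩ := fun i => by
    rw [form_map]
    simp only [form]
    exact Finset.sum_congr rfl fun e' _ => congrArg _ (hcF _ (hne _ i.2 _))
  let h : MvPolynomial (Fin r) K := ∑ e' : {e : Fin r →₀ ℕ // e.degree = j + 1}, monomial e'.1 (cK (inj e'))
  have hcoe : coeff e.1 h = cK (inj e) := by
    simp only [h, coeff_sum, coeff_monomial]
    rw [Finset.sum_eq_single e (fun e' _ hne => if_neg fun h => hne (Subtype.ext h)) (by simp), if_pos rfl]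
  rw [← hcoe]
  refine isAlgebraic_coeff_of_mem (F := F) (fun i : Fin j => i.1 + 1) (fun i => form cF ⟨i.1, by omega⟩)
    (fun i => form_homog _ _) ?_ P (fun i => ?_) T hT (form cF jj) h ?_ e.1
  · have hJe : Ideal.span (Set.range fun i : Fin j => MvPolynomial.map (algebraMap F K) (form cF ⟨i.1, by omega⟩)) = J j := by
      simp only [J]
      refine congrArg Ideal.span (Set.ext fun x => ?_)
      simp only [Set.mem_range, hg, Set.mem_image, Set.mem_ofPred_eq]
      exact ⟨fun ⟨i, hi⟩ => ⟨⟨i.1, by omega⟩, i.2, hi⟩, fun ⟨i, hi, hx⟩ => ⟨⟨i.1, hi⟩, hx⟩⟩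
    rw [hJe]
    exact hr1
  · rw [hg]
    exact hP (Ideal.subset_span ⟨_, show i.1 < j + 1 by omega, rfl⟩)
  · have e1 : MvPolynomial.map (algebraMap F K) (form cF jj) + rename T h = form cK jj := by
      rw [form_map]
      simp only [h, map_sum, rename_monomial]
      show _ + ∑ e', monomial (inj e').2.1 (cK (inj e')) = _
      let w : Expo m (j + 1) → MvPolynomial (Fin (m + 1)) K := fun e' => monomial e'.1 (cK ⟨jj, e'⟩)
      have e2 : ∑ e', monomial (inj e').2.1 (cK (inj e')) =
          ∑ e' : Expo m (j + 1), if (⟨jj, e'⟩ : Idx m d) ∈ E then w e' else 0 := by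
        rw [← Finset.sum_filter]
        refine Finset.sum_bij (fun e' _ => (inj e').2) (fun e' _ => ?_) (fun a _ b _ hab => ?_) (fun b hb => ?_)
          (fun e' _ => rfl)
        · exact Finset.mem_filter.2 ⟨Finset.mem_univ _, Finset.mem_image.2 ⟨e', Finset.mem_univ _, rfl⟩⟩
        · exact hinj (Sigma.ext rfl (heq_of_eq hab))
        · obtain ⟨a, -, ha⟩ := Finset.mem_image.1 (Finset.mem_filter.1 hb).2
          exact ⟨a, Finset.mem_univ _, eq_of_heq (Sigma.mk.inj_iff.1 ha).2⟩
      rw [e2]
      simp only [form, w]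
      rw [← Finset.sum_add_distrib]
      refine Finset.sum_congr rfl fun e' _ => ?_
      split_ifs with hE
      · rw [show cF ⟨jj, e'⟩ = 0 from dif_pos hE, map_zero, monomial_zero, zero_add]
      · rw [hcF _ hE, add_zero]
    rw [e1]
    exact hP (Ideal.subset_span ⟨_, show j < j + 1 by omega, rfl⟩)

end Groth.Agent.FanoSeq13
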